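import Cfsg.Agent.Lib.SteinerCert.Check

/-! Search trees for small Steiner systems (generated data). -/

set_option autoImplicit false

namespace Cfsg.Lib.SteinerCert

/-- The standard system. -/
def elevenStd : List ℕ :=
  [59,87,110,143,188,217,229,242,286,309,333,355,376,403,422,425,458,468,541,551,602,617,628,662,682,689,707,716,779,812,818,838,849,901,920,992,1069,1078,1099,1116,1137,1173,1178,1187,1222,1256,1287,1305,1322,1362,1380,1420,1456,1473,1550,1555,1592,1605,1634,1673,1700,1744,1812,1825,1864,1922]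

/-- A node of the search. -/
def elevenNode1 : Tree := .leaf [0,1,2,3,7,4,6,5,9,10,8]

/-- A node of the search. -/
def elevenNode2 : Tree := .br 464 (.conf 9 (.conf 9 (.conf 16 (.conf 24 (.conf 25 (.conf 47 (.go elevenNode1 .nil)))))))

/-- A node of the search. -/
def elevenNode3 : Tree := .br 688 (.conf 10 (.conf 10 (.conf 15 (.conf 38 (.conf 27 (.conf 25 (.go elevenNode2 .nil)))))))

/-- A node of the search. -/
def elevenNode4 : Tree := .br 368 (.conf 9 (.conf 9 (.conf 33 (.conf 20 (.conf 25 (.go elevenNode3 (.conf 28 .nil)))))))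

/-- A node of the search. -/
def elevenNode5 : Tree := .br 840 (.conf 5 (.conf 5 (.conf 19 (.conf 22 (.conf 41 (.conf 24 (.go elevenNode4 .nil)))))))

/-- A node of the search. -/
def elevenNode6 : Tree := .br 424 (.conf 4 (.conf 4 (.conf 12 (.conf 25 (.conf 24 (.go elevenNode5 (.conf 46 .nil)))))))

/-- A node of the search. -/
def elevenNode7 : Tree := .br 232 (.conf 4 (.conf 4 (.conf 31 (.conf 20 (.conf 24 (.conf 27 (.go elevenNode6 .nil)))))))

/-- A node of the search. -/
def elevenNode8 : Tree := .br 216 (.conf 16 (.conf 31 (.conf 16 (.conf 20 (.conf 24 (.go elevenNode7 (.conf 23 .nil)))))))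

/-- A node of the search. -/
def elevenNode9 : Tree := .br 312 (.conf 12 (.conf 33 (.conf 12 (.conf 20 (.conf 25 (.conf 22 (.go elevenNode8 .nil)))))))

/-- A node of the search. -/
def elevenNode10 : Tree := .br 708 (.conf 13 (.conf 31 (.conf 13 (.conf 16 (.conf 27 (.conf 19 (.go elevenNode9 .nil)))))))

/-- A node of the search. -/
def elevenNode11 : Tree := .br 804 (.conf 8 (.conf 8 (.conf 12 (.conf 15 (.conf 19 (.conf 36 (.go elevenNode10 .nil)))))))

/-- A node of the search. -/
def elevenNode12 : Tree := .br 228 (.conf 1 (.conf 1 (.conf 31 (.conf 16 (.go elevenNode11 (.conf 27 (.conf 18 .nil)))))))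

/-- A node of the search. -/
def elevenNode13 : Tree := .br 404 (.conf 2 (.conf 2 (.conf 40 (.conf 25 (.conf 16 (.go elevenNode12 (.conf 17 .nil)))))))

/-- A node of the search. -/
def elevenNode14 : Tree := .br 116 (.conf 1 (.conf 1 (.conf 20 (.conf 16 (.conf 33 (.conf 15 (.go elevenNode13 .nil)))))))

/-- A node of the search. -/
def elevenNode15 : Tree := .br 396 (.conf 2 (.conf 2 (.conf 40 (.conf 12 (.conf 24 (.conf 13 (.go elevenNode14 .nil)))))))

/-- A node of the search. -/
def elevenNode16 : Tree := .br 108 (.conf 1 (.conf 1 (.conf 20 (.conf 31 (.conf 12 (.go elevenNode15 (.conf 14 .nil)))))))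

/-- A node of the search. -/
def elevenNode17 : Tree := .br 540 (.conf 0 (.conf 0 (.conf 15 (.conf 35 (.conf 13 (.conf 22 (.go elevenNode16 .nil)))))))

/-- A node of the search. -/
def elevenNode18 : Tree := .br 92 (.conf 0 (.conf 0 (.conf 20 (.conf 16 (.go elevenNode17 (.conf 35 (.conf 14 .nil)))))))

/-- A node of the search. -/
def elevenNode19 : Tree := .br 60 (.conf 0 (.conf 0 (.conf 20 (.go elevenNode18 (.conf 12 (.conf 15 (.conf 30 .nil)))))))

/-- A node of the search. -/
def elevenNode20 : Tree := .br 450 (.conf 2 (.conf 2 (.conf 24 (.conf 9 (.conf 41 (.go elevenNode19 (.conf 11 .nil)))))))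

/-- A node of the search. -/
def elevenNode21 : Tree := .br 418 (.conf 2 (.conf 2 (.conf 4 (.conf 25 (.conf 41 (.conf 8 (.go elevenNode20 .nil)))))))

/-- A node of the search. -/
def elevenNode22 : Tree := .br 610 (.conf 1 (.conf 1 (.conf 5 (.conf 35 (.conf 27 (.conf 8 (.go elevenNode21 .nil)))))))

/-- A node of the search. -/
def elevenNode23 : Tree := .br 786 (.conf 8 (.conf 32 (.conf 22 (.conf 8 (.conf 9 (.conf 10 (.go elevenNode22 .nil)))))))

/-- A node of the search. -/
def elevenNode24 : Tree := .br 114 (.conf 1 (.conf 1 (.conf 20 (.go elevenNode23 (.conf 9 (.conf 35 (.conf 7 .nil)))))))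

/-- A node of the search. -/
def elevenNode25 : Tree := .br 650 (.conf 4 (.conf 13 (.conf 10 (.conf 4 (.conf 5 (.conf 32 (.go elevenNode24 .nil)))))))

/-- A node of the search. -/
def elevenNode26 : Tree := .br 106 (.conf 1 (.conf 1 (.conf 20 (.conf 4 (.go elevenNode25 (.conf 5 (.conf 30 .nil)))))))

/-- A node of the search. -/
def elevenNode27 : Tree := .br 154 (.conf 0 (.conf 0 (.conf 4 (.conf 31 (.go elevenNode26 (.conf 10 (.conf 23 .nil)))))))

/-- A node of the search. -/
def elevenNode28 : Tree := .br 90 (.conf 0 (.conf 0 (.conf 20 (.conf 31 (.conf 9 (.conf 5 (.go elevenNode27 .nil)))))))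

/-- A node of the search. -/
def elevenNode29 : Tree := .br 58 (.conf 0 (.conf 0 (.conf 20 (.conf 4 (.conf 33 (.go elevenNode28 (.conf 7 .nil)))))))

/-- A node of the search. -/
def elevenNode30 : Tree := .br 326 (.conf 1 (.conf 31 (.conf 9 (.conf 1 (.conf 2 (.conf 19 (.go elevenNode29 .nil)))))))

/-- A node of the search. -/
def elevenNode31 : Tree := .br 166 (.conf 1 (.conf 4 (.conf 33 (.conf 1 (.conf 2 (.go elevenNode30 (.conf 18 .nil)))))))

/-- A node of the search. -/
def elevenNode32 : Tree := .br 86 (.conf 0 (.conf 0 (.conf 1 (.conf 16 (.conf 9 (.go elevenNode31 (.conf 34 .nil)))))))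

/-- A node of the search. -/
def elevenNode33 : Tree := .br 150 (.conf 0 (.conf 0 (.conf 33 (.conf 16 (.conf 2 (.conf 10 (.go elevenNode32 .nil)))))))

/-- A node of the search. -/
def elevenNode34 : Tree := .br 278 (.conf 0 (.conf 0 (.go elevenNode33 (.conf 9 (.conf 2 (.conf 32 (.conf 17 .nil)))))))

/-- A node of the search. -/
def elevenNode35 : Tree := .br 270 (.conf 0 (.conf 0 (.conf 12 (.conf 31 (.conf 2 (.go elevenNode34 (.conf 6 .nil)))))))

/-- A node of the search. -/
def elevenNode36 : Tree := .br 142 (.conf 0 (.conf 0 (.conf 4 (.go elevenNode35 (.conf 2 (.conf 13 (.conf 30 .nil)))))))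

/-- A node of the search. -/
def elevenNode37 : Tree := .leaf [0,1,2,3,7,6,4,10,8,5,9]

/-- A node of the search. -/
def elevenNode38 : Tree := .br 464 (.conf 9 (.conf 9 (.conf 16 (.conf 24 (.conf 25 (.go elevenNode37 (.conf 44 .nil)))))))

/-- A node of the search. -/
def elevenNode39 : Tree := .br 816 (.conf 8 (.conf 8 (.conf 15 (.conf 22 (.conf 43 (.conf 25 (.go elevenNode38 .nil)))))))

/-- A node of the search. -/
def elevenNode40 : Tree := .br 240 (.conf 16 (.conf 33 (.conf 16 (.conf 20 (.conf 25 (.conf 27 (.go elevenNode39 .nil)))))))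

/-- A node of the search. -/
def elevenNode41 : Tree := .br 712 (.conf 5 (.conf 5 (.conf 13 (.conf 39 (.conf 27 (.conf 24 (.go elevenNode40 .nil)))))))

/-- A node of the search. -/
def elevenNode42 : Tree := .br 424 (.conf 4 (.conf 4 (.conf 12 (.conf 25 (.conf 24 (.conf 42 (.go elevenNode41 .nil)))))))

/-- A node of the search. -/
def elevenNode43 : Tree := .br 360 (.conf 12 (.conf 31 (.conf 12 (.conf 20 (.conf 24 (.go elevenNode42 (.conf 28 .nil)))))))

/-- A node of the search. -/
def elevenNode44 : Tree := .br 344 (.conf 9 (.conf 9 (.conf 31 (.conf 20 (.conf 24 (.conf 22 (.go elevenNode43 .nil)))))))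

/-- A node of the search. -/
def elevenNode45 : Tree := .br 184 (.conf 4 (.conf 4 (.conf 33 (.conf 20 (.conf 25 (.go elevenNode44 (.conf 23 .nil)))))))

/-- A node of the search. -/
def elevenNode46 : Tree := .br 452 (.conf 2 (.conf 2 (.conf 24 (.conf 16 (.conf 45 (.conf 19 (.go elevenNode45 .nil)))))))

/-- A node of the search. -/
def elevenNode47 : Tree := .br 420 (.conf 2 (.conf 2 (.conf 12 (.conf 25 (.conf 45 (.go elevenNode46 (.conf 18 .nil)))))))

/-- A node of the search. -/
def elevenNode48 : Tree := .br 612 (.conf 1 (.conf 1 (.conf 30 (.conf 15 (.conf 27 (.conf 19 (.go elevenNode47 .nil)))))))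

/-- A node of the search. -/
def elevenNode49 : Tree := .br 660 (.conf 10 (.conf 10 (.conf 13 (.conf 15 (.conf 16 (.conf 34 (.go elevenNode48 .nil)))))))

/-- A node of the search. -/
def elevenNode50 : Tree := .br 116 (.conf 1 (.conf 1 (.conf 20 (.conf 16 (.go elevenNode49 (.conf 15 (.conf 35 .nil)))))))

/-- A node of the search. -/
def elevenNode51 : Tree := .br 780 (.conf 12 (.conf 30 (.conf 22 (.conf 12 (.conf 19 (.conf 13 (.go elevenNode50 .nil)))))))

/-- A node of the search. -/
def elevenNode52 : Tree := .br 108 (.conf 1 (.conf 1 (.conf 20 (.go elevenNode51 (.conf 12 (.conf 30 (.conf 14 .nil)))))))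

/-- A node of the search. -/
def elevenNode53 : Tree := .br 156 (.conf 0 (.conf 0 (.conf 33 (.conf 16 (.go elevenNode52 (.conf 13 (.conf 23 .nil)))))))

/-- A node of the search. -/
def elevenNode54 : Tree := .br 92 (.conf 0 (.conf 0 (.conf 20 (.conf 16 (.conf 31 (.go elevenNode53 (.conf 14 .nil)))))))

/-- A node of the search. -/
def elevenNode55 : Tree := .br 60 (.conf 0 (.conf 0 (.conf 20 (.conf 33 (.conf 12 (.conf 15 (.go elevenNode54 .nil)))))))

/-- A node of the search. -/
def elevenNode56 : Tree := .br 834 (.conf 5 (.conf 19 (.conf 5 (.conf 9 (.conf 8 (.conf 37 (.go elevenNode55 .nil)))))))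

/-- A node of the search. -/
def elevenNode57 : Tree := .br 674 (.conf 4 (.conf 30 (.conf 4 (.conf 10 (.conf 27 (.conf 8 (.go elevenNode56 .nil)))))))

/-- A node of the search. -/
def elevenNode58 : Tree := .br 226 (.conf 1 (.conf 1 (.conf 4 (.conf 33 (.go elevenNode57 (.conf 27 (.conf 11 .nil)))))))

/-- A node of the search. -/
def elevenNode59 : Tree := .br 402 (.conf 2 (.conf 2 (.conf 38 (.conf 25 (.conf 9 (.conf 10 (.go elevenNode58 .nil)))))))

/-- A node of the search. -/
def elevenNode60 : Tree := .br 114 (.conf 1 (.conf 1 (.conf 20 (.conf 33 (.conf 9 (.go elevenNode59 (.conf 7 .nil)))))))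

/-- A node of the search. -/
def elevenNode61 : Tree := .br 394 (.conf 2 (.conf 2 (.conf 38 (.conf 4 (.conf 24 (.go elevenNode60 (.conf 6 .nil)))))))

/-- A node of the search. -/
def elevenNode62 : Tree := .br 106 (.conf 1 (.conf 1 (.conf 20 (.conf 4 (.conf 31 (.conf 5 (.go elevenNode61 .nil)))))))

/-- A node of the search. -/
def elevenNode63 : Tree := .br 538 (.conf 0 (.conf 0 (.conf 30 (.conf 5 (.conf 10 (.conf 22 (.go elevenNode62 .nil)))))))

/-- A node of the search. -/
def elevenNode64 : Tree := .br 90 (.conf 0 (.conf 0 (.conf 20 (.go elevenNode63 (.conf 9 (.conf 5 (.conf 35 .nil)))))))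

/-- A node of the search. -/
def elevenNode65 : Tree := .br 58 (.conf 0 (.conf 0 (.conf 20 (.conf 4 (.go elevenNode64 (.conf 30 (.conf 7 .nil)))))))

/-- A node of the search. -/
def elevenNode66 : Tree := .br 198 (.conf 1 (.conf 31 (.conf 16 (.conf 1 (.conf 2 (.go elevenNode65 (.conf 11 .nil)))))))

/-- A node of the search. -/
def elevenNode67 : Tree := .br 294 (.conf 1 (.conf 12 (.conf 33 (.conf 1 (.conf 2 (.conf 8 (.go elevenNode66 .nil)))))))

/-- A node of the search. -/
def elevenNode68 : Tree := .br 86 (.conf 0 (.conf 0 (.conf 1 (.conf 16 (.conf 9 (.conf 34 (.go elevenNode67 .nil)))))))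

/-- A node of the search. -/
def elevenNode69 : Tree := .br 278 (.conf 0 (.conf 0 (.conf 33 (.conf 9 (.conf 2 (.go elevenNode68 (.conf 17 .nil)))))))

/-- A node of the search. -/
def elevenNode70 : Tree := .br 150 (.conf 0 (.conf 0 (.go elevenNode69 (.conf 16 (.conf 2 (.conf 10 (.conf 32 .nil)))))))

/-- A node of the search. -/
def elevenNode71 : Tree := .br 142 (.conf 0 (.conf 0 (.conf 4 (.conf 31 (.conf 2 (.conf 13 (.go elevenNode70 .nil)))))))

/-- A node of the search. -/
def elevenNode72 : Tree := .br 270 (.conf 0 (.conf 0 (.conf 12 (.go elevenNode71 (.conf 2 (.conf 30 (.conf 6 .nil)))))))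

/-- A node of the search. -/
def elevenNode73 : Tree := .br 46 (.conf 0 (.conf 0 (.conf 1 (.conf 4 (.conf 12 (.go elevenNode72 (.go elevenNode36 .nil)))))))

/-- A node of the search. -/
def elevenNode74 : Tree := .br 897 (.conf 2 (.conf 2 (.conf 13 (.conf 10 (.conf 8 (.conf 19 (.go elevenNode73 .nil)))))))

/-- A node of the search. -/
def elevenNode75 : Tree := .br 353 (.conf 1 (.conf 1 (.conf 12 (.conf 9 (.conf 24 (.conf 8 (.go elevenNode74 .nil)))))))

/-- A node of the search. -/
def elevenNode76 : Tree := .br 225 (.conf 1 (.conf 1 (.conf 4 (.conf 16 (.conf 24 (.go elevenNode75 (.conf 11 .nil)))))))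

/-- A node of the search. -/
def elevenNode77 : Tree := .br 593 (.conf 5 (.conf 15 (.conf 5 (.conf 15 (.conf 10 (.conf 9 (.go elevenNode76 .nil)))))))

/-- A node of the search. -/
def elevenNode78 : Tree := .br 177 (.conf 4 (.conf 15 (.conf 4 (.conf 16 (.go elevenNode77 (.conf 10 (.conf 7 .nil)))))))

/-- A node of the search. -/
def elevenNode79 : Tree := .br 201 (.conf 4 (.conf 13 (.conf 16 (.conf 4 (.go elevenNode78 (.conf 5 (.conf 11 .nil)))))))

/-- A node of the search. -/
def elevenNode80 : Tree := .br 153 (.conf 0 (.conf 0 (.conf 4 (.conf 16 (.conf 22 (.conf 10 (.go elevenNode79 .nil)))))))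

/-- A node of the search. -/
def elevenNode81 : Tree := .br 537 (.conf 0 (.conf 0 (.conf 15 (.conf 5 (.conf 10 (.go elevenNode80 (.conf 21 .nil)))))))

/-- A node of the search. -/
def elevenNode82 : Tree := .br 553 (.conf 4 (.conf 12 (.conf 15 (.conf 5 (.conf 4 (.conf 8 (.go elevenNode81 .nil)))))))

/-- A node of the search. -/
def elevenNode83 : Tree := .br 57 (.conf 0 (.conf 0 (.go elevenNode82 (.conf 4 (.conf 12 (.conf 15 (.conf 7 .nil)))))))

/-- A node of the search. -/
def elevenNode84 : Tree := .br 325 (.conf 1 (.conf 12 (.conf 9 (.conf 1 (.conf 2 (.go elevenNode83 (.conf 14 .nil)))))))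

/-- A node of the search. -/
def elevenNode85 : Tree := .br 165 (.conf 1 (.conf 4 (.conf 15 (.conf 1 (.conf 2 (.conf 13 (.go elevenNode84 .nil)))))))

/-- A node of the search. -/
def elevenNode86 : Tree := .br 277 (.conf 0 (.conf 0 (.conf 12 (.conf 9 (.conf 2 (.conf 15 (.go elevenNode85 .nil)))))))

/-- A node of the search. -/
def elevenNode87 : Tree := .br 85 (.conf 0 (.conf 0 (.conf 1 (.go elevenNode86 (.conf 9 (.conf 15 (.conf 14 .nil)))))))

/-- A node of the search. -/
def elevenNode88 : Tree := .br 549 (.conf 1 (.conf 12 (.go elevenNode87 (.conf 1 (.conf 13 (.conf 8 (.conf 3 .nil)))))))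

/-- A node of the search. -/
def elevenNode89 : Tree := .br 77 (.conf 0 (.conf 0 (.conf 1 (.conf 13 (.conf 12 (.conf 5 (.go elevenNode88 .nil)))))))

/-- A node of the search. -/
def elevenNode90 : Tree := .br 525 (.conf 0 (.conf 0 (.conf 12 (.conf 5 (.go elevenNode89 (.conf 12 (.conf 3 .nil)))))))

/-- A node of the search. -/
def elevenNode91 : Tree := .br 45 (.conf 0 (.conf 0 (.conf 1 (.conf 4 (.go elevenNode90 (.sym [0,1,3,2,4,5,7,6,9,8,10] 8 (.sym [0,1,3,5,7,2,4,6,9,10,8] 8 .nil)))))))

/-- A node of the search. -/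
def elevenNode92 : Tree := .br 195 (.conf 1 (.conf 4 (.conf 9 (.conf 1 (.conf 2 (.conf 5 (.go elevenNode91 .nil)))))))

/-- A node of the search. -/
def elevenNode93 : Tree := .br 147 (.conf 0 (.conf 0 (.conf 4 (.conf 9 (.conf 2 (.go elevenNode92 (.conf 7 .nil)))))))

/-- A node of the search. -/
def elevenNode94 : Tree := .br 275 (.conf 0 (.conf 0 (.conf 7 (.go elevenNode93 (.conf 2 (.conf 8 (.conf 6 .nil)))))))

/-- A node of the search. -/
def elevenNode95 : Tree := .br 291 (.conf 1 (.conf 4 (.conf 7 (.conf 1 (.conf 2 (.go elevenNode94 (.conf 6 .nil)))))))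

/-- A node of the search. -/
def elevenNode96 : Tree := .br 1059 (.conf 1 (.conf 4 (.go elevenNode95 (.conf 1 (.conf 4 (.conf 6 (.conf 3 .nil)))))))

/-- A node of the search. -/
def elevenNode97 : Tree := .br 267 (.conf 0 (.conf 0 (.conf 4 (.conf 5 (.conf 2 (.conf 5 (.go elevenNode96 .nil)))))))

/-- A node of the search. -/
def elevenNode98 : Tree := .br 523 (.conf 0 (.conf 0 (.conf 4 (.go elevenNode97 (.conf 4 (.sym [0,1,2,3,4,7,8,5,6,9,10] 6 (.conf 3 .nil)))))))

/-- A node of the search. -/
def elevenNode99 : Tree := .br 43 (.conf 0 (.conf 0 (.conf 1 (.go elevenNode98 (.sym [0,1,2,3,4,5,6,8,7,9,10] 7 (.sym [0,1,2,3,4,5,6,9,10,7,8] 7 (.sym [0,1,2,3,4,5,6,9,10,8,7] 7 .nil)))))))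

/-- A node of the search. -/
def elevenNode100 : Tree := .br 519 (.conf 0 (.conf 0 (.conf 1 (.conf 1 (.conf 2 (.conf 2 (.go elevenNode99 .nil)))))))

/-- A node of the search. -/
def elevenNode101 : Tree := .br 135 (.conf 0 (.conf 0 (.conf 1 (.conf 1 (.go elevenNode100 (.sym [0,1,2,3,4,5,6,7,9,8,10] 8 (.sym [0,1,2,3,4,5,6,7,9,10,8] 8 .nil)))))))

/-- A node of the search. -/
def elevenNode102 : Tree := .br 39 (.conf 0 (.conf 0 (.go elevenNode101 (.sym [0,1,2,3,4,5,7,6,8,9,10] 6 (.sym [0,1,2,3,4,5,7,8,6,9,10] 6 (.sym [0,1,2,3,4,5,7,8,9,6,10] 6 (.sym [0,1,2,3,4,5,7,8,9,10,6] 6 .nil)))))))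

/-- A node of the search. -/
def elevenNode103 : Tree := .br 15 (.go elevenNode102 (.sym [0,1,2,3,5,4,6,7,8,9,10] 4 (.sym [0,1,2,3,5,6,4,7,8,9,10] 4 (.sym [0,1,2,3,5,6,7,4,8,9,10] 4 (.sym [0,1,2,3,5,6,7,8,4,9,10] 4 (.sym [0,1,2,3,5,6,7,8,9,4,10] 4 (.sym [0,1,2,3,5,6,7,8,9,10,4] 4 .nil)))))))

/-- The search. -/
def elevenTree : Tree := elevenNode103

/-- The standard system. -/
def twelveStd : List ℕ :=
  [119,175,221,250,287,366,377,435,444,459,470,485,573,606,619,667,694,711,748,753,807,826,845,851,884,910,917,937,984,994,1083,1103,1148,1182,1205,1235,1254,1257,1325,1334,1365,1370,1379,1415,1433,1450,1484,1520,1559,1582,1625,1637,1650,1677,1699,1720,1738,1748,1803,1820,1841,1862,1896,1938,1956,1985,2110,2139,2157,2199,2233,2254,2275,2292,2347,2357,2375,2396,2418,2445,2458,2470,2513,2536,2575,2611,2645,2662,2680,2716,2725,2730,2761,2770,2838,2841,2860,2890,2913,2947,2992,3012,3101,3111,3158,3178,3185,3211,3244,3250,3269,3288,3342,3347,3384,3401,3428,3476,3489,3522,3610,3625,3636,3651,3660,3718,3729,3808,3845,3874,3920,3976]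

/-- A node of the search. -/
def twelveNode1 : Tree := .leaf [0,1,2,3,4,8,5,7,6,10,11,9]

/-- A node of the search. -/
def twelveNode2 : Tree := .br 1984 (.conf 27 (.conf 27 (.conf 47 (.conf 55 (.conf 61 (.conf 63 (.go twelveNode1 .nil)))))))

/-- A node of the search. -/
def twelveNode3 : Tree := .br 1840 (.conf 22 (.conf 22 (.conf 40 (.conf 54 (.conf 61 (.conf 59 (.go twelveNode2 .nil)))))))

/-- A node of the search. -/
def twelveNode4 : Tree := .br 1264 (.conf 20 (.conf 20 (.conf 38 (.conf 51 (.conf 59 (.conf 63 (.go twelveNode3 .nil)))))))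

/-- A node of the search. -/
def twelveNode5 : Tree := .br 496 (.conf 20 (.conf 20 (.conf 43 (.conf 48 (.go twelveNode4 (.conf 59 (.conf 60 .nil)))))))

/-- A node of the search. -/
def twelveNode6 : Tree := .br 1704 (.conf 19 (.conf 19 (.conf 35 (.conf 49 (.conf 63 (.conf 54 (.go twelveNode5 .nil)))))))

/-- A node of the search. -/
def twelveNode7 : Tree := .br 872 (.conf 25 (.conf 25 (.conf 33 (.conf 48 (.conf 55 (.conf 54 (.go twelveNode6 .nil)))))))

/-- A node of the search. -/
def twelveNode8 : Tree := .br 488 (.conf 16 (.conf 16 (.conf 43 (.conf 48 (.conf 55 (.go twelveNode7 (.conf 53 .nil)))))))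

/-- A node of the search. -/
def twelveNode9 : Tree := .br 920 (.conf 24 (.conf 24 (.conf 31 (.conf 49 (.conf 55 (.go twelveNode8 (.conf 52 .nil)))))))

/-- A node of the search. -/
def twelveNode10 : Tree := .br 1368 (.conf 13 (.conf 13 (.conf 36 (.conf 48 (.conf 51 (.conf 61 (.go twelveNode9 .nil)))))))

/-- A node of the search. -/
def twelveNode11 : Tree := .br 728 (.conf 12 (.conf 12 (.conf 41 (.conf 49 (.conf 55 (.conf 51 (.go twelveNode10 .nil)))))))

/-- A node of the search. -/
def twelveNode12 : Tree := .br 440 (.conf 16 (.conf 16 (.conf 31 (.conf 48 (.conf 49 (.conf 59 (.go twelveNode11 .nil)))))))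

/-- A node of the search. -/
def twelveNode13 : Tree := .br 632 (.conf 12 (.conf 12 (.conf 33 (.conf 49 (.conf 48 (.go twelveNode12 (.conf 58 .nil)))))))

/-- A node of the search. -/
def twelveNode14 : Tree := .br 1444 (.conf 10 (.conf 10 (.conf 35 (.conf 59 (.conf 43 (.conf 47 (.go twelveNode13 .nil)))))))

/-- A node of the search. -/
def twelveNode15 : Tree := .br 868 (.conf 25 (.conf 25 (.conf 33 (.conf 40 (.conf 43 (.go twelveNode14 (.conf 46 .nil)))))))

/-- A node of the search. -/
def twelveNode16 : Tree := .br 740 (.conf 9 (.conf 9 (.conf 33 (.conf 41 (.conf 43 (.conf 63 (.go twelveNode15 .nil)))))))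

/-- A node of the search. -/
def twelveNode17 : Tree := .br 916 (.conf 24 (.conf 24 (.conf 31 (.conf 40 (.conf 41 (.conf 47 (.go twelveNode16 .nil)))))))

/-- A node of the search. -/
def twelveNode18 : Tree := .br 1620 (.conf 8 (.conf 8 (.conf 32 (.conf 38 (.conf 41 (.conf 61 (.go twelveNode17 .nil)))))))

/-- A node of the search. -/
def twelveNode19 : Tree := .br 468 (.conf 4 (.conf 4 (.conf 31 (.conf 43 (.conf 41 (.go twelveNode18 (.conf 60 .nil)))))))

/-- A node of the search. -/
def twelveNode20 : Tree := .br 692 (.conf 9 (.conf 9 (.conf 49 (.conf 41 (.conf 40 (.go twelveNode19 (.conf 39 .nil)))))))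

/-- A node of the search. -/
def twelveNode21 : Tree := .br 372 (.conf 4 (.conf 4 (.conf 48 (.conf 43 (.conf 40 (.conf 38 (.go twelveNode20 .nil)))))))

/-- A node of the search. -/
def twelveNode22 : Tree := .br 1804 (.conf 2 (.conf 2 (.conf 32 (.conf 54 (.conf 36 (.conf 47 (.go twelveNode21 .nil)))))))

/-- A node of the search. -/
def twelveNode23 : Tree := .br 716 (.conf 1 (.conf 1 (.conf 41 (.conf 33 (.conf 55 (.go twelveNode22 (.conf 37 .nil)))))))

/-- A node of the search. -/
def twelveNode24 : Tree := .br 460 (.conf 1 (.conf 1 (.conf 31 (.conf 43 (.conf 55 (.conf 36 (.go twelveNode23 .nil)))))))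

/-- A node of the search. -/
def twelveNode25 : Tree := .br 428 (.conf 16 (.conf 16 (.conf 31 (.conf 43 (.go twelveNode24 (.conf 35 (.conf 34 .nil)))))))

/-- A node of the search. -/
def twelveNode26 : Tree := .br 1132 (.conf 15 (.conf 15 (.conf 38 (.conf 35 (.conf 36 (.conf 33 (.go twelveNode25 .nil)))))))

/-- A node of the search. -/
def twelveNode27 : Tree := .br 1180 (.conf 5 (.conf 5 (.conf 35 (.conf 51 (.conf 31 (.conf 32 (.go twelveNode26 .nil)))))))

/-- A node of the search. -/
def twelveNode28 : Tree := .br 348 (.conf 4 (.conf 4 (.conf 48 (.conf 31 (.go twelveNode27 (.conf 36 (.conf 30 .nil)))))))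

/-- A node of the search. -/
def twelveNode29 : Tree := .br 572 (.conf 0 (.conf 0 (.conf 33 (.conf 49 (.conf 40 (.conf 32 (.go twelveNode28 .nil)))))))

/-- A node of the search. -/
def twelveNode30 : Tree := .br 316 (.conf 0 (.conf 0 (.conf 48 (.conf 31 (.conf 40 (.go twelveNode29 (.conf 34 .nil)))))))

/-- A node of the search. -/
def twelveNode31 : Tree := .br 124 (.conf 0 (.conf 0 (.go twelveNode30 (.conf 48 (.conf 33 (.conf 38 (.conf 30 .nil)))))))

/-- A node of the search. -/
def twelveNode32 : Tree := .br 930 (.conf 9 (.conf 9 (.conf 16 (.conf 24 (.conf 25 (.go twelveNode31 (.conf 65 .nil)))))))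

/-- A node of the search. -/
def twelveNode33 : Tree := .br 1634 (.conf 8 (.conf 8 (.conf 15 (.conf 22 (.conf 63 (.conf 25 (.go twelveNode32 .nil)))))))

/-- A node of the search. -/
def twelveNode34 : Tree := .br 482 (.conf 16 (.conf 43 (.conf 16 (.conf 20 (.conf 25 (.conf 27 (.go twelveNode33 .nil)))))))

/-- A node of the search. -/
def twelveNode35 : Tree := .br 1426 (.conf 5 (.conf 5 (.conf 13 (.conf 59 (.conf 27 (.conf 24 (.go twelveNode34 .nil)))))))

/-- A node of the search. -/
def twelveNode36 : Tree := .br 850 (.conf 4 (.conf 4 (.conf 12 (.conf 25 (.conf 24 (.conf 61 (.go twelveNode35 .nil)))))))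

/-- A node of the search. -/
def twelveNode37 : Tree := .br 722 (.conf 12 (.conf 41 (.conf 12 (.conf 20 (.conf 24 (.go twelveNode36 (.conf 28 .nil)))))))

/-- A node of the search. -/
def twelveNode38 : Tree := .br 690 (.conf 9 (.conf 9 (.conf 49 (.conf 20 (.conf 24 (.conf 22 (.go twelveNode37 .nil)))))))

/-- A node of the search. -/
def twelveNode39 : Tree := .br 370 (.conf 4 (.conf 4 (.conf 48 (.conf 20 (.conf 25 (.go twelveNode38 (.conf 23 .nil)))))))

/-- A node of the search. -/
def twelveNode40 : Tree := .br 906 (.conf 2 (.conf 2 (.conf 24 (.conf 16 (.conf 55 (.conf 19 (.go twelveNode39 .nil)))))))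

/-- A node of the search. -/
def twelveNode41 : Tree := .br 842 (.conf 2 (.conf 2 (.conf 12 (.conf 25 (.conf 55 (.go twelveNode40 (.conf 18 .nil)))))))

/-- A node of the search. -/
def twelveNode42 : Tree := .br 1226 (.conf 1 (.conf 1 (.conf 51 (.conf 15 (.conf 27 (.conf 19 (.go twelveNode41 .nil)))))))

/-- A node of the search. -/
def twelveNode43 : Tree := .br 1322 (.conf 10 (.conf 10 (.conf 13 (.conf 15 (.conf 16 (.conf 54 (.go twelveNode42 .nil)))))))

/-- A node of the search. -/
def twelveNode44 : Tree := .br 234 (.conf 1 (.conf 1 (.conf 20 (.conf 16 (.go twelveNode43 (.conf 15 (.conf 53 .nil)))))))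

/-- A node of the search. -/
def twelveNode45 : Tree := .br 1562 (.conf 12 (.conf 32 (.conf 22 (.conf 12 (.conf 19 (.conf 13 (.go twelveNode44 .nil)))))))

/-- A node of the search. -/
def twelveNode46 : Tree := .br 218 (.conf 1 (.conf 1 (.conf 20 (.go twelveNode45 (.conf 12 (.conf 51 (.conf 14 .nil)))))))

/-- A node of the search. -/
def twelveNode47 : Tree := .br 314 (.conf 0 (.conf 0 (.conf 48 (.conf 16 (.go twelveNode46 (.conf 13 (.conf 23 .nil)))))))

/-- A node of the search. -/
def twelveNode48 : Tree := .br 186 (.conf 0 (.conf 0 (.conf 20 (.conf 16 (.conf 49 (.go twelveNode47 (.conf 14 .nil)))))))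

/-- A node of the search. -/
def twelveNode49 : Tree := .br 122 (.conf 0 (.conf 0 (.conf 20 (.conf 48 (.conf 12 (.conf 15 (.go twelveNode48 .nil)))))))

/-- A node of the search. -/
def twelveNode50 : Tree := .br 1670 (.conf 5 (.conf 19 (.conf 5 (.conf 9 (.conf 8 (.conf 47 (.go twelveNode49 .nil)))))))

/-- A node of the search. -/
def twelveNode51 : Tree := .br 1350 (.conf 4 (.conf 36 (.conf 4 (.conf 10 (.conf 27 (.conf 8 (.go twelveNode50 .nil)))))))

/-- A node of the search. -/
def twelveNode52 : Tree := .br 454 (.conf 1 (.conf 1 (.conf 4 (.conf 43 (.go twelveNode51 (.conf 27 (.conf 11 .nil)))))))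

/-- A node of the search. -/
def twelveNode53 : Tree := .br 806 (.conf 2 (.conf 2 (.conf 40 (.conf 25 (.conf 9 (.conf 10 (.go twelveNode52 .nil)))))))

/-- A node of the search. -/
def twelveNode54 : Tree := .br 230 (.conf 1 (.conf 1 (.conf 20 (.conf 43 (.conf 9 (.go twelveNode53 (.conf 7 .nil)))))))

/-- A node of the search. -/
def twelveNode55 : Tree := .br 790 (.conf 2 (.conf 2 (.conf 40 (.conf 4 (.conf 24 (.go twelveNode54 (.conf 6 .nil)))))))

/-- A node of the search. -/
def twelveNode56 : Tree := .br 214 (.conf 1 (.conf 1 (.conf 20 (.conf 4 (.conf 41 (.conf 5 (.go twelveNode55 .nil)))))))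

/-- A node of the search. -/
def twelveNode57 : Tree := .br 1078 (.conf 0 (.conf 0 (.conf 38 (.conf 5 (.conf 10 (.conf 22 (.go twelveNode56 .nil)))))))

/-- A node of the search. -/
def twelveNode58 : Tree := .br 182 (.conf 0 (.conf 0 (.conf 20 (.go twelveNode57 (.conf 9 (.conf 5 (.conf 39 .nil)))))))

/-- A node of the search. -/
def twelveNode59 : Tree := .br 118 (.conf 0 (.conf 0 (.conf 20 (.conf 4 (.go twelveNode58 (.conf 38 (.conf 7 .nil)))))))

/-- A node of the search. -/
def twelveNode60 : Tree := .br 398 (.conf 1 (.conf 31 (.conf 16 (.conf 1 (.conf 2 (.go twelveNode59 (.conf 11 .nil)))))))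

/-- A node of the search. -/
def twelveNode61 : Tree := .br 590 (.conf 1 (.conf 12 (.conf 33 (.conf 1 (.conf 2 (.conf 8 (.go twelveNode60 .nil)))))))

/-- A node of the search. -/
def twelveNode62 : Tree := .br 558 (.conf 0 (.conf 0 (.conf 33 (.conf 9 (.conf 2 (.go twelveNode61 (.conf 17 .nil)))))))

/-- A node of the search. -/
def twelveNode63 : Tree := .br 174 (.conf 0 (.conf 0 (.conf 1 (.conf 16 (.conf 9 (.conf 35 (.go twelveNode62 .nil)))))))

/-- A node of the search. -/
def twelveNode64 : Tree := .br 110 (.conf 0 (.conf 0 (.conf 1 (.go twelveNode63 (.conf 33 (.conf 15 (.conf 7 .nil)))))))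

/-- A node of the search. -/
def twelveNode65 : Tree := .br 286 (.conf 0 (.conf 0 (.conf 4 (.conf 31 (.conf 2 (.conf 13 (.go twelveNode64 .nil)))))))

/-- A node of the search. -/
def twelveNode66 : Tree := .br 158 (.conf 0 (.conf 0 (.conf 1 (.conf 31 (.go twelveNode65 (.conf 5 (.conf 14 .nil)))))))

/-- A node of the search. -/
def twelveNode67 : Tree := .br 94 (.conf 0 (.conf 0 (.conf 1 (.conf 4 (.conf 12 (.go twelveNode66 (.conf 30 .nil)))))))

/-- A node of the search. -/
def twelveNode68 : Tree := .br 929 (.conf 9 (.conf 9 (.conf 16 (.conf 24 (.conf 25 (.conf 47 (.go twelveNode67 .nil)))))))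

/-- A node of the search. -/
def twelveNode69 : Tree := .br 1377 (.conf 10 (.conf 10 (.conf 15 (.conf 38 (.conf 27 (.conf 25 (.go twelveNode68 .nil)))))))

/-- A node of the search. -/
def twelveNode70 : Tree := .br 737 (.conf 9 (.conf 9 (.conf 33 (.conf 20 (.conf 25 (.go twelveNode69 (.conf 28 .nil)))))))

/-- A node of the search. -/
def twelveNode71 : Tree := .br 1681 (.conf 5 (.conf 5 (.conf 19 (.conf 22 (.conf 41 (.conf 24 (.go twelveNode70 .nil)))))))

/-- A node of the search. -/
def twelveNode72 : Tree := .br 849 (.conf 4 (.conf 4 (.conf 12 (.conf 25 (.conf 24 (.go twelveNode71 (.conf 46 .nil)))))))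

/-- A node of the search. -/
def twelveNode73 : Tree := .br 465 (.conf 4 (.conf 4 (.conf 31 (.conf 20 (.conf 24 (.conf 27 (.go twelveNode72 .nil)))))))

/-- A node of the search. -/
def twelveNode74 : Tree := .br 433 (.conf 16 (.conf 31 (.conf 16 (.conf 20 (.conf 24 (.go twelveNode73 (.conf 23 .nil)))))))

/-- A node of the search. -/
def twelveNode75 : Tree := .br 625 (.conf 12 (.conf 33 (.conf 12 (.conf 20 (.conf 25 (.conf 22 (.go twelveNode74 .nil)))))))

/-- A node of the search. -/
def twelveNode76 : Tree := .br 1417 (.conf 13 (.conf 31 (.conf 13 (.conf 16 (.conf 27 (.conf 19 (.go twelveNode75 .nil)))))))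

/-- A node of the search. -/
def twelveNode77 : Tree := .br 1609 (.conf 8 (.conf 8 (.conf 12 (.conf 15 (.conf 19 (.conf 36 (.go twelveNode76 .nil)))))))

/-- A node of the search. -/
def twelveNode78 : Tree := .br 457 (.conf 1 (.conf 1 (.conf 31 (.conf 16 (.go twelveNode77 (.conf 27 (.conf 18 .nil)))))))

/-- A node of the search. -/
def twelveNode79 : Tree := .br 809 (.conf 2 (.conf 2 (.conf 40 (.conf 25 (.conf 16 (.go twelveNode78 (.conf 17 .nil)))))))

/-- A node of the search. -/
def twelveNode80 : Tree := .br 233 (.conf 1 (.conf 1 (.conf 20 (.conf 16 (.conf 33 (.conf 15 (.go twelveNode79 .nil)))))))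

/-- A node of the search. -/
def twelveNode81 : Tree := .br 793 (.conf 2 (.conf 2 (.conf 40 (.conf 12 (.conf 24 (.conf 13 (.go twelveNode80 .nil)))))))

/-- A node of the search. -/
def twelveNode82 : Tree := .br 217 (.conf 1 (.conf 1 (.conf 20 (.conf 31 (.conf 12 (.go twelveNode81 (.conf 14 .nil)))))))

/-- A node of the search. -/
def twelveNode83 : Tree := .br 1081 (.conf 0 (.conf 0 (.conf 15 (.conf 35 (.conf 13 (.conf 22 (.go twelveNode82 .nil)))))))

/-- A node of the search. -/
def twelveNode84 : Tree := .br 185 (.conf 0 (.conf 0 (.conf 20 (.conf 16 (.go twelveNode83 (.conf 35 (.conf 14 .nil)))))))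

/-- A node of the search. -/
def twelveNode85 : Tree := .br 121 (.conf 0 (.conf 0 (.conf 20 (.go twelveNode84 (.conf 12 (.conf 15 (.conf 30 .nil)))))))

/-- A node of the search. -/
def twelveNode86 : Tree := .br 901 (.conf 2 (.conf 2 (.conf 24 (.conf 9 (.conf 41 (.go twelveNode85 (.conf 11 .nil)))))))

/-- A node of the search. -/
def twelveNode87 : Tree := .br 837 (.conf 2 (.conf 2 (.conf 4 (.conf 25 (.conf 41 (.conf 8 (.go twelveNode86 .nil)))))))

/-- A node of the search. -/
def twelveNode88 : Tree := .br 1221 (.conf 1 (.conf 1 (.conf 5 (.conf 35 (.conf 27 (.conf 8 (.go twelveNode87 .nil)))))))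

/-- A node of the search. -/
def twelveNode89 : Tree := .br 1573 (.conf 8 (.conf 32 (.conf 22 (.conf 8 (.conf 9 (.conf 10 (.go twelveNode88 .nil)))))))

/-- A node of the search. -/
def twelveNode90 : Tree := .br 229 (.conf 1 (.conf 1 (.conf 20 (.go twelveNode89 (.conf 9 (.conf 35 (.conf 7 .nil)))))))

/-- A node of the search. -/
def twelveNode91 : Tree := .br 1301 (.conf 4 (.conf 13 (.conf 10 (.conf 4 (.conf 5 (.conf 32 (.go twelveNode90 .nil)))))))

/-- A node of the search. -/
def twelveNode92 : Tree := .br 213 (.conf 1 (.conf 1 (.conf 20 (.conf 4 (.go twelveNode91 (.conf 5 (.conf 30 .nil)))))))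

/-- A node of the search. -/
def twelveNode93 : Tree := .br 309 (.conf 0 (.conf 0 (.conf 4 (.conf 31 (.go twelveNode92 (.conf 10 (.conf 23 .nil)))))))

/-- A node of the search. -/
def twelveNode94 : Tree := .br 181 (.conf 0 (.conf 0 (.conf 20 (.conf 31 (.conf 9 (.conf 5 (.go twelveNode93 .nil)))))))

/-- A node of the search. -/
def twelveNode95 : Tree := .br 117 (.conf 0 (.conf 0 (.conf 20 (.conf 4 (.conf 33 (.go twelveNode94 (.conf 7 .nil)))))))

/-- A node of the search. -/
def twelveNode96 : Tree := .br 653 (.conf 1 (.conf 31 (.conf 9 (.conf 1 (.conf 2 (.conf 19 (.go twelveNode95 .nil)))))))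

/-- A node of the search. -/
def twelveNode97 : Tree := .br 333 (.conf 1 (.conf 4 (.conf 33 (.conf 1 (.conf 2 (.go twelveNode96 (.conf 18 .nil)))))))

/-- A node of the search. -/
def twelveNode98 : Tree := .br 173 (.conf 0 (.conf 0 (.conf 1 (.conf 16 (.conf 9 (.go twelveNode97 (.conf 34 .nil)))))))

/-- A node of the search. -/
def twelveNode99 : Tree := .br 301 (.conf 0 (.conf 0 (.conf 33 (.conf 16 (.conf 2 (.conf 10 (.go twelveNode98 .nil)))))))

/-- A node of the search. -/
def twelveNode100 : Tree := .br 557 (.conf 0 (.conf 0 (.go twelveNode99 (.conf 9 (.conf 2 (.conf 32 (.conf 17 .nil)))))))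

/-- A node of the search. -/
def twelveNode101 : Tree := .br 541 (.conf 0 (.conf 0 (.conf 12 (.conf 31 (.conf 2 (.go twelveNode100 (.conf 6 .nil)))))))

/-- A node of the search. -/
def twelveNode102 : Tree := .br 285 (.conf 0 (.conf 0 (.conf 4 (.go twelveNode101 (.conf 2 (.conf 13 (.conf 30 .nil)))))))

/-- A node of the search. -/
def twelveNode103 : Tree := .leaf [0,1,2,3,4,8,7,5,11,9,6,10]

/-- A node of the search. -/
def twelveNode104 : Tree := .br 1984 (.conf 27 (.conf 27 (.conf 45 (.conf 56 (.conf 60 (.conf 65 (.go twelveNode103 .nil)))))))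

/-- A node of the search. -/
def twelveNode105 : Tree := .br 1840 (.conf 22 (.conf 22 (.conf 42 (.conf 50 (.conf 58 (.conf 65 (.go twelveNode104 .nil)))))))

/-- A node of the search. -/
def twelveNode106 : Tree := .br 1264 (.conf 20 (.conf 20 (.conf 43 (.conf 49 (.conf 58 (.conf 60 (.go twelveNode105 .nil)))))))

/-- A node of the search. -/
def twelveNode107 : Tree := .br 496 (.conf 20 (.conf 20 (.conf 39 (.conf 51 (.go twelveNode106 (.conf 58 (.conf 63 .nil)))))))

/-- A node of the search. -/
def twelveNode108 : Tree := .br 1704 (.conf 19 (.conf 19 (.conf 34 (.conf 49 (.conf 53 (.conf 65 (.go twelveNode107 .nil)))))))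

/-- A node of the search. -/
def twelveNode109 : Tree := .br 872 (.conf 25 (.conf 25 (.conf 33 (.conf 50 (.conf 53 (.conf 56 (.go twelveNode108 .nil)))))))

/-- A node of the search. -/
def twelveNode110 : Tree := .br 488 (.conf 16 (.conf 16 (.conf 33 (.conf 51 (.conf 53 (.go twelveNode109 (.conf 63 .nil)))))))

/-- A node of the search. -/
def twelveNode111 : Tree := .br 920 (.conf 24 (.conf 24 (.conf 31 (.conf 50 (.conf 51 (.go twelveNode110 (.conf 57 .nil)))))))

/-- A node of the search. -/
def twelveNode112 : Tree := .br 1368 (.conf 13 (.conf 13 (.conf 30 (.conf 58 (.conf 51 (.conf 56 (.go twelveNode111 .nil)))))))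

/-- A node of the search. -/
def twelveNode113 : Tree := .br 728 (.conf 12 (.conf 12 (.conf 31 (.conf 53 (.conf 51 (.conf 60 (.go twelveNode112 .nil)))))))

/-- A node of the search. -/
def twelveNode114 : Tree := .br 440 (.conf 16 (.conf 16 (.conf 39 (.conf 51 (.conf 50 (.conf 49 (.go twelveNode113 .nil)))))))

/-- A node of the search. -/
def twelveNode115 : Tree := .br 632 (.conf 12 (.conf 12 (.conf 38 (.conf 53 (.conf 50 (.go twelveNode114 (.conf 48 .nil)))))))

/-- A node of the search. -/
def twelveNode116 : Tree := .br 1444 (.conf 10 (.conf 10 (.conf 37 (.conf 39 (.conf 43 (.conf 65 (.go twelveNode115 .nil)))))))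

/-- A node of the search. -/
def twelveNode117 : Tree := .br 868 (.conf 25 (.conf 25 (.conf 33 (.conf 38 (.conf 45 (.go twelveNode116 (.conf 44 .nil)))))))

/-- A node of the search. -/
def twelveNode118 : Tree := .br 740 (.conf 9 (.conf 9 (.conf 53 (.conf 38 (.conf 45 (.conf 43 (.go twelveNode117 .nil)))))))

/-- A node of the search. -/
def twelveNode119 : Tree := .br 916 (.conf 24 (.conf 24 (.conf 31 (.conf 39 (.conf 45 (.conf 42 (.go twelveNode118 .nil)))))))

/-- A node of the search. -/
def twelveNode120 : Tree := .br 1620 (.conf 8 (.conf 8 (.conf 30 (.conf 38 (.conf 60 (.conf 42 (.go twelveNode119 .nil)))))))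

/-- A node of the search. -/
def twelveNode121 : Tree := .br 468 (.conf 4 (.conf 4 (.conf 51 (.conf 39 (.conf 45 (.go twelveNode120 (.conf 41 .nil)))))))

/-- A node of the search. -/
def twelveNode122 : Tree := .br 692 (.conf 9 (.conf 9 (.conf 31 (.conf 38 (.conf 39 (.go twelveNode121 (.conf 59 .nil)))))))

/-- A node of the search. -/
def twelveNode123 : Tree := .br 372 (.conf 4 (.conf 4 (.conf 33 (.conf 39 (.conf 38 (.conf 58 (.go twelveNode122 .nil)))))))

/-- A node of the search. -/
def twelveNode124 : Tree := .br 1804 (.conf 2 (.conf 2 (.conf 42 (.conf 34 (.conf 56 (.conf 37 (.go twelveNode123 .nil)))))))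

/-- A node of the search. -/
def twelveNode125 : Tree := .br 716 (.conf 1 (.conf 1 (.conf 31 (.conf 53 (.conf 45 (.go twelveNode124 (.conf 36 .nil)))))))

/-- A node of the search. -/
def twelveNode126 : Tree := .br 460 (.conf 1 (.conf 1 (.conf 51 (.conf 33 (.conf 45 (.conf 37 (.go twelveNode125 .nil)))))))

/-- A node of the search. -/
def twelveNode127 : Tree := .br 428 (.conf 16 (.conf 16 (.conf 39 (.conf 33 (.go twelveNode126 (.conf 37 (.conf 35 .nil)))))))

/-- A node of the search. -/
def twelveNode128 : Tree := .br 1132 (.conf 15 (.conf 15 (.conf 30 (.conf 43 (.conf 33 (.conf 34 (.go twelveNode127 .nil)))))))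

/-- A node of the search. -/
def twelveNode129 : Tree := .br 1180 (.conf 5 (.conf 5 (.conf 49 (.conf 30 (.conf 37 (.conf 31 (.go twelveNode128 .nil)))))))

/-- A node of the search. -/
def twelveNode130 : Tree := .br 348 (.conf 4 (.conf 4 (.conf 33 (.conf 51 (.go twelveNode129 (.conf 30 (.conf 32 .nil)))))))

/-- A node of the search. -/
def twelveNode131 : Tree := .br 572 (.conf 0 (.conf 0 (.conf 38 (.conf 31 (.conf 50 (.conf 34 (.go twelveNode130 .nil)))))))

/-- A node of the search. -/
def twelveNode132 : Tree := .br 316 (.conf 0 (.conf 0 (.conf 33 (.conf 39 (.conf 50 (.go twelveNode131 (.conf 32 .nil)))))))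

/-- A node of the search. -/
def twelveNode133 : Tree := .br 124 (.conf 0 (.conf 0 (.go twelveNode132 (.conf 33 (.conf 38 (.conf 30 (.conf 48 .nil)))))))

/-- A node of the search. -/
def twelveNode134 : Tree := .br 930 (.conf 9 (.conf 9 (.conf 16 (.conf 24 (.conf 25 (.conf 65 (.go twelveNode133 .nil)))))))

/-- A node of the search. -/
def twelveNode135 : Tree := .br 1378 (.conf 10 (.conf 10 (.conf 15 (.conf 58 (.conf 27 (.conf 25 (.go twelveNode134 .nil)))))))

/-- A node of the search. -/
def twelveNode136 : Tree := .br 738 (.conf 9 (.conf 9 (.conf 53 (.conf 20 (.conf 25 (.go twelveNode135 (.conf 28 .nil)))))))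

/-- A node of the search. -/
def twelveNode137 : Tree := .br 1682 (.conf 5 (.conf 5 (.conf 19 (.conf 22 (.conf 60 (.conf 24 (.go twelveNode136 .nil)))))))

/-- A node of the search. -/
def twelveNode138 : Tree := .br 850 (.conf 4 (.conf 4 (.conf 12 (.conf 25 (.conf 24 (.go twelveNode137 (.conf 61 .nil)))))))

/-- A node of the search. -/
def twelveNode139 : Tree := .br 466 (.conf 4 (.conf 4 (.conf 51 (.conf 20 (.conf 24 (.conf 27 (.go twelveNode138 .nil)))))))

/-- A node of the search. -/
def twelveNode140 : Tree := .br 434 (.conf 16 (.conf 39 (.conf 16 (.conf 20 (.conf 24 (.go twelveNode139 (.conf 23 .nil)))))))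

/-- A node of the search. -/
def twelveNode141 : Tree := .br 626 (.conf 12 (.conf 38 (.conf 12 (.conf 20 (.conf 25 (.conf 22 (.go twelveNode140 .nil)))))))

/-- A node of the search. -/
def twelveNode142 : Tree := .br 1418 (.conf 13 (.conf 37 (.conf 13 (.conf 16 (.conf 27 (.conf 19 (.go twelveNode141 .nil)))))))

/-- A node of the search. -/
def twelveNode143 : Tree := .br 1610 (.conf 8 (.conf 8 (.conf 12 (.conf 15 (.conf 19 (.conf 56 (.go twelveNode142 .nil)))))))

/-- A node of the search. -/
def twelveNode144 : Tree := .br 458 (.conf 1 (.conf 1 (.conf 51 (.conf 16 (.go twelveNode143 (.conf 27 (.conf 18 .nil)))))))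

/-- A node of the search. -/
def twelveNode145 : Tree := .br 810 (.conf 2 (.conf 2 (.conf 50 (.conf 25 (.conf 16 (.go twelveNode144 (.conf 17 .nil)))))))

/-- A node of the search. -/
def twelveNode146 : Tree := .br 234 (.conf 1 (.conf 1 (.conf 20 (.conf 16 (.conf 53 (.conf 15 (.go twelveNode145 .nil)))))))

/-- A node of the search. -/
def twelveNode147 : Tree := .br 794 (.conf 2 (.conf 2 (.conf 50 (.conf 12 (.conf 24 (.conf 13 (.go twelveNode146 .nil)))))))

/-- A node of the search. -/
def twelveNode148 : Tree := .br 218 (.conf 1 (.conf 1 (.conf 20 (.conf 51 (.conf 12 (.go twelveNode147 (.conf 14 .nil)))))))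

/-- A node of the search. -/
def twelveNode149 : Tree := .br 1082 (.conf 0 (.conf 0 (.conf 15 (.conf 49 (.conf 13 (.conf 22 (.go twelveNode148 .nil)))))))

/-- A node of the search. -/
def twelveNode150 : Tree := .br 186 (.conf 0 (.conf 0 (.conf 20 (.conf 16 (.go twelveNode149 (.conf 49 (.conf 14 .nil)))))))

/-- A node of the search. -/
def twelveNode151 : Tree := .br 122 (.conf 0 (.conf 0 (.conf 20 (.go twelveNode150 (.conf 12 (.conf 15 (.conf 48 .nil)))))))

/-- A node of the search. -/
def twelveNode152 : Tree := .br 902 (.conf 2 (.conf 2 (.conf 24 (.conf 9 (.conf 45 (.go twelveNode151 (.conf 11 .nil)))))))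

/-- A node of the search. -/
def twelveNode153 : Tree := .br 838 (.conf 2 (.conf 2 (.conf 4 (.conf 25 (.conf 45 (.conf 8 (.go twelveNode152 .nil)))))))

/-- A node of the search. -/
def twelveNode154 : Tree := .br 1222 (.conf 1 (.conf 1 (.conf 5 (.conf 43 (.conf 27 (.conf 8 (.go twelveNode153 .nil)))))))

/-- A node of the search. -/
def twelveNode155 : Tree := .br 1574 (.conf 8 (.conf 34 (.conf 22 (.conf 8 (.conf 9 (.conf 10 (.go twelveNode154 .nil)))))))

/-- A node of the search. -/
def twelveNode156 : Tree := .br 230 (.conf 1 (.conf 1 (.conf 20 (.go twelveNode155 (.conf 9 (.conf 43 (.conf 7 .nil)))))))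

/-- A node of the search. -/
def twelveNode157 : Tree := .br 1302 (.conf 4 (.conf 13 (.conf 10 (.conf 4 (.conf 5 (.conf 42 (.go twelveNode156 .nil)))))))

/-- A node of the search. -/
def twelveNode158 : Tree := .br 214 (.conf 1 (.conf 1 (.conf 20 (.conf 4 (.go twelveNode157 (.conf 5 (.conf 41 .nil)))))))

/-- A node of the search. -/
def twelveNode159 : Tree := .br 310 (.conf 0 (.conf 0 (.conf 4 (.conf 39 (.go twelveNode158 (.conf 10 (.conf 23 .nil)))))))

/-- A node of the search. -/
def twelveNode160 : Tree := .br 182 (.conf 0 (.conf 0 (.conf 20 (.conf 39 (.conf 9 (.conf 5 (.go twelveNode159 .nil)))))))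

/-- A node of the search. -/
def twelveNode161 : Tree := .br 118 (.conf 0 (.conf 0 (.conf 20 (.conf 4 (.conf 38 (.go twelveNode160 (.conf 7 .nil)))))))

/-- A node of the search. -/
def twelveNode162 : Tree := .br 654 (.conf 1 (.conf 31 (.conf 9 (.conf 1 (.conf 2 (.conf 19 (.go twelveNode161 .nil)))))))

/-- A node of the search. -/
def twelveNode163 : Tree := .br 334 (.conf 1 (.conf 4 (.conf 33 (.conf 1 (.conf 2 (.go twelveNode162 (.conf 18 .nil)))))))

/-- A node of the search. -/
def twelveNode164 : Tree := .br 302 (.conf 0 (.conf 0 (.conf 33 (.conf 16 (.conf 2 (.conf 10 (.go twelveNode163 .nil)))))))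

/-- A node of the search. -/
def twelveNode165 : Tree := .br 174 (.conf 0 (.conf 0 (.conf 1 (.conf 16 (.conf 9 (.go twelveNode164 (.conf 35 .nil)))))))

/-- A node of the search. -/
def twelveNode166 : Tree := .br 110 (.conf 0 (.conf 0 (.conf 1 (.conf 33 (.go twelveNode165 (.conf 15 (.conf 7 .nil)))))))

/-- A node of the search. -/
def twelveNode167 : Tree := .br 542 (.conf 0 (.conf 0 (.conf 12 (.conf 31 (.conf 2 (.go twelveNode166 (.conf 6 .nil)))))))

/-- A node of the search. -/
def twelveNode168 : Tree := .br 158 (.conf 0 (.conf 0 (.conf 1 (.go twelveNode167 (.conf 31 (.conf 5 (.conf 14 .nil)))))))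

/-- A node of the search. -/
def twelveNode169 : Tree := .br 94 (.conf 0 (.conf 0 (.conf 1 (.conf 4 (.conf 12 (.conf 30 (.go twelveNode168 .nil)))))))

/-- A node of the search. -/
def twelveNode170 : Tree := .br 929 (.conf 9 (.conf 9 (.conf 16 (.conf 24 (.conf 25 (.go twelveNode169 (.conf 44 .nil)))))))

/-- A node of the search. -/
def twelveNode171 : Tree := .br 1633 (.conf 8 (.conf 8 (.conf 15 (.conf 22 (.conf 43 (.conf 25 (.go twelveNode170 .nil)))))))

/-- A node of the search. -/
def twelveNode172 : Tree := .br 481 (.conf 16 (.conf 33 (.conf 16 (.conf 20 (.conf 25 (.conf 27 (.go twelveNode171 .nil)))))))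

/-- A node of the search. -/
def twelveNode173 : Tree := .br 1425 (.conf 5 (.conf 5 (.conf 13 (.conf 39 (.conf 27 (.conf 24 (.go twelveNode172 .nil)))))))

/-- A node of the search. -/
def twelveNode174 : Tree := .br 849 (.conf 4 (.conf 4 (.conf 12 (.conf 25 (.conf 24 (.conf 42 (.go twelveNode173 .nil)))))))

/-- A node of the search. -/
def twelveNode175 : Tree := .br 721 (.conf 12 (.conf 31 (.conf 12 (.conf 20 (.conf 24 (.go twelveNode174 (.conf 28 .nil)))))))

/-- A node of the search. -/
def twelveNode176 : Tree := .br 689 (.conf 9 (.conf 9 (.conf 31 (.conf 20 (.conf 24 (.conf 22 (.go twelveNode175 .nil)))))))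

/-- A node of the search. -/
def twelveNode177 : Tree := .br 369 (.conf 4 (.conf 4 (.conf 33 (.conf 20 (.conf 25 (.go twelveNode176 (.conf 23 .nil)))))))

/-- A node of the search. -/
def twelveNode178 : Tree := .br 905 (.conf 2 (.conf 2 (.conf 24 (.conf 16 (.conf 45 (.conf 19 (.go twelveNode177 .nil)))))))

/-- A node of the search. -/
def twelveNode179 : Tree := .br 841 (.conf 2 (.conf 2 (.conf 12 (.conf 25 (.conf 45 (.go twelveNode178 (.conf 18 .nil)))))))

/-- A node of the search. -/
def twelveNode180 : Tree := .br 1225 (.conf 1 (.conf 1 (.conf 30 (.conf 15 (.conf 27 (.conf 19 (.go twelveNode179 .nil)))))))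

/-- A node of the search. -/
def twelveNode181 : Tree := .br 1321 (.conf 10 (.conf 10 (.conf 13 (.conf 15 (.conf 16 (.conf 34 (.go twelveNode180 .nil)))))))

/-- A node of the search. -/
def twelveNode182 : Tree := .br 233 (.conf 1 (.conf 1 (.conf 20 (.conf 16 (.go twelveNode181 (.conf 15 (.conf 35 .nil)))))))

/-- A node of the search. -/
def twelveNode183 : Tree := .br 1561 (.conf 12 (.conf 30 (.conf 22 (.conf 12 (.conf 19 (.conf 13 (.go twelveNode182 .nil)))))))

/-- A node of the search. -/
def twelveNode184 : Tree := .br 217 (.conf 1 (.conf 1 (.conf 20 (.go twelveNode183 (.conf 12 (.conf 30 (.conf 14 .nil)))))))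

/-- A node of the search. -/
def twelveNode185 : Tree := .br 313 (.conf 0 (.conf 0 (.conf 33 (.conf 16 (.go twelveNode184 (.conf 13 (.conf 23 .nil)))))))

/-- A node of the search. -/
def twelveNode186 : Tree := .br 185 (.conf 0 (.conf 0 (.conf 20 (.conf 16 (.conf 31 (.go twelveNode185 (.conf 14 .nil)))))))

/-- A node of the search. -/
def twelveNode187 : Tree := .br 121 (.conf 0 (.conf 0 (.conf 20 (.conf 33 (.conf 12 (.conf 15 (.go twelveNode186 .nil)))))))

/-- A node of the search. -/
def twelveNode188 : Tree := .br 1669 (.conf 5 (.conf 19 (.conf 5 (.conf 9 (.conf 8 (.conf 37 (.go twelveNode187 .nil)))))))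

/-- A node of the search. -/
def twelveNode189 : Tree := .br 1349 (.conf 4 (.conf 30 (.conf 4 (.conf 10 (.conf 27 (.conf 8 (.go twelveNode188 .nil)))))))

/-- A node of the search. -/
def twelveNode190 : Tree := .br 453 (.conf 1 (.conf 1 (.conf 4 (.conf 33 (.go twelveNode189 (.conf 27 (.conf 11 .nil)))))))

/-- A node of the search. -/
def twelveNode191 : Tree := .br 805 (.conf 2 (.conf 2 (.conf 38 (.conf 25 (.conf 9 (.conf 10 (.go twelveNode190 .nil)))))))

/-- A node of the search. -/
def twelveNode192 : Tree := .br 229 (.conf 1 (.conf 1 (.conf 20 (.conf 33 (.conf 9 (.go twelveNode191 (.conf 7 .nil)))))))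

/-- A node of the search. -/
def twelveNode193 : Tree := .br 789 (.conf 2 (.conf 2 (.conf 38 (.conf 4 (.conf 24 (.go twelveNode192 (.conf 6 .nil)))))))

/-- A node of the search. -/
def twelveNode194 : Tree := .br 213 (.conf 1 (.conf 1 (.conf 20 (.conf 4 (.conf 31 (.conf 5 (.go twelveNode193 .nil)))))))

/-- A node of the search. -/
def twelveNode195 : Tree := .br 1077 (.conf 0 (.conf 0 (.conf 30 (.conf 5 (.conf 10 (.conf 22 (.go twelveNode194 .nil)))))))

/-- A node of the search. -/
def twelveNode196 : Tree := .br 181 (.conf 0 (.conf 0 (.conf 20 (.go twelveNode195 (.conf 9 (.conf 5 (.conf 35 .nil)))))))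

/-- A node of the search. -/
def twelveNode197 : Tree := .br 117 (.conf 0 (.conf 0 (.conf 20 (.conf 4 (.go twelveNode196 (.conf 30 (.conf 7 .nil)))))))

/-- A node of the search. -/
def twelveNode198 : Tree := .br 397 (.conf 1 (.conf 31 (.conf 16 (.conf 1 (.conf 2 (.go twelveNode197 (.conf 11 .nil)))))))

/-- A node of the search. -/
def twelveNode199 : Tree := .br 589 (.conf 1 (.conf 12 (.conf 33 (.conf 1 (.conf 2 (.conf 8 (.go twelveNode198 .nil)))))))

/-- A node of the search. -/
def twelveNode200 : Tree := .br 173 (.conf 0 (.conf 0 (.conf 1 (.conf 16 (.conf 9 (.conf 34 (.go twelveNode199 .nil)))))))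

/-- A node of the search. -/
def twelveNode201 : Tree := .br 557 (.conf 0 (.conf 0 (.conf 33 (.conf 9 (.conf 2 (.go twelveNode200 (.conf 17 .nil)))))))

/-- A node of the search. -/
def twelveNode202 : Tree := .br 301 (.conf 0 (.conf 0 (.go twelveNode201 (.conf 16 (.conf 2 (.conf 10 (.conf 32 .nil)))))))

/-- A node of the search. -/
def twelveNode203 : Tree := .br 285 (.conf 0 (.conf 0 (.conf 4 (.conf 31 (.conf 2 (.conf 13 (.go twelveNode202 .nil)))))))

/-- A node of the search. -/
def twelveNode204 : Tree := .br 541 (.conf 0 (.conf 0 (.conf 12 (.go twelveNode203 (.conf 2 (.conf 30 (.conf 6 .nil)))))))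

/-- A node of the search. -/
def twelveNode205 : Tree := .br 93 (.conf 0 (.conf 0 (.conf 1 (.conf 4 (.conf 12 (.go twelveNode204 (.go twelveNode102 .nil)))))))

/-- A node of the search. -/
def twelveNode206 : Tree := .br 1795 (.conf 2 (.conf 2 (.conf 13 (.conf 10 (.conf 8 (.conf 19 (.go twelveNode205 .nil)))))))

/-- A node of the search. -/
def twelveNode207 : Tree := .br 707 (.conf 1 (.conf 1 (.conf 12 (.conf 9 (.conf 24 (.conf 8 (.go twelveNode206 .nil)))))))

/-- A node of the search. -/
def twelveNode208 : Tree := .br 451 (.conf 1 (.conf 1 (.conf 4 (.conf 16 (.conf 24 (.go twelveNode207 (.conf 11 .nil)))))))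

/-- A node of the search. -/
def twelveNode209 : Tree := .br 1187 (.conf 5 (.conf 15 (.conf 5 (.conf 15 (.conf 10 (.conf 9 (.go twelveNode208 .nil)))))))

/-- A node of the search. -/
def twelveNode210 : Tree := .br 355 (.conf 4 (.conf 15 (.conf 4 (.conf 16 (.go twelveNode209 (.conf 10 (.conf 7 .nil)))))))

/-- A node of the search. -/
def twelveNode211 : Tree := .br 403 (.conf 4 (.conf 13 (.conf 16 (.conf 4 (.go twelveNode210 (.conf 5 (.conf 11 .nil)))))))

/-- A node of the search. -/
def twelveNode212 : Tree := .br 307 (.conf 0 (.conf 0 (.conf 4 (.conf 16 (.conf 22 (.conf 10 (.go twelveNode211 .nil)))))))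

/-- A node of the search. -/
def twelveNode213 : Tree := .br 1075 (.conf 0 (.conf 0 (.conf 15 (.conf 5 (.conf 10 (.go twelveNode212 (.conf 21 .nil)))))))

/-- A node of the search. -/
def twelveNode214 : Tree := .br 1107 (.conf 4 (.conf 12 (.conf 15 (.conf 5 (.conf 4 (.conf 8 (.go twelveNode213 .nil)))))))

/-- A node of the search. -/
def twelveNode215 : Tree := .br 115 (.conf 0 (.conf 0 (.go twelveNode214 (.conf 4 (.conf 12 (.conf 15 (.conf 7 .nil)))))))

/-- A node of the search. -/
def twelveNode216 : Tree := .br 651 (.conf 1 (.conf 12 (.conf 9 (.conf 1 (.conf 2 (.go twelveNode215 (.conf 14 .nil)))))))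

/-- A node of the search. -/
def twelveNode217 : Tree := .br 331 (.conf 1 (.conf 4 (.conf 15 (.conf 1 (.conf 2 (.conf 13 (.go twelveNode216 .nil)))))))

/-- A node of the search. -/
def twelveNode218 : Tree := .br 555 (.conf 0 (.conf 0 (.conf 12 (.conf 9 (.conf 2 (.conf 15 (.go twelveNode217 .nil)))))))

/-- A node of the search. -/
def twelveNode219 : Tree := .br 171 (.conf 0 (.conf 0 (.conf 1 (.go twelveNode218 (.conf 9 (.conf 15 (.conf 14 .nil)))))))

/-- A node of the search. -/
def twelveNode220 : Tree := .br 1099 (.conf 1 (.conf 12 (.go twelveNode219 (.conf 1 (.conf 13 (.conf 8 (.conf 3 .nil)))))))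

/-- A node of the search. -/
def twelveNode221 : Tree := .br 155 (.conf 0 (.conf 0 (.conf 1 (.conf 13 (.conf 12 (.conf 5 (.go twelveNode220 .nil)))))))

/-- A node of the search. -/
def twelveNode222 : Tree := .br 1051 (.conf 0 (.conf 0 (.conf 12 (.conf 5 (.go twelveNode221 (.conf 12 (.conf 3 .nil)))))))

/-- A node of the search. -/
def twelveNode223 : Tree := .br 91 (.conf 0 (.conf 0 (.conf 1 (.conf 4 (.go twelveNode222 (.sym [0,1,2,4,3,5,6,8,7,10,9,11] 9 (.sym [0,1,2,4,6,8,3,5,7,10,11,9] 9 .nil)))))))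

/-- A node of the search. -/
def twelveNode224 : Tree := .br 391 (.conf 1 (.conf 4 (.conf 9 (.conf 1 (.conf 2 (.conf 5 (.go twelveNode223 .nil)))))))

/-- A node of the search. -/
def twelveNode225 : Tree := .br 295 (.conf 0 (.conf 0 (.conf 4 (.conf 9 (.conf 2 (.go twelveNode224 (.conf 7 .nil)))))))

/-- A node of the search. -/
def twelveNode226 : Tree := .br 551 (.conf 0 (.conf 0 (.conf 7 (.go twelveNode225 (.conf 2 (.conf 8 (.conf 6 .nil)))))))

/-- A node of the search. -/
def twelveNode227 : Tree := .br 583 (.conf 1 (.conf 4 (.conf 7 (.conf 1 (.conf 2 (.go twelveNode226 (.conf 6 .nil)))))))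

/-- A node of the search. -/
def twelveNode228 : Tree := .br 2119 (.conf 1 (.conf 4 (.go twelveNode227 (.conf 1 (.conf 4 (.conf 6 (.conf 3 .nil)))))))

/-- A node of the search. -/
def twelveNode229 : Tree := .br 535 (.conf 0 (.conf 0 (.conf 4 (.conf 5 (.conf 2 (.conf 5 (.go twelveNode228 .nil)))))))

/-- A node of the search. -/
def twelveNode230 : Tree := .br 1047 (.conf 0 (.conf 0 (.conf 4 (.go twelveNode229 (.conf 4 (.sym [0,1,2,3,4,5,8,9,6,7,10,11] 7 (.conf 3 .nil)))))))

/-- A node of the search. -/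
def twelveNode231 : Tree := .br 87 (.conf 0 (.conf 0 (.conf 1 (.go twelveNode230 (.sym [0,1,2,3,4,5,6,7,9,8,10,11] 8 (.sym [0,1,2,3,4,5,6,7,10,11,8,9] 8 (.sym [0,1,2,3,4,5,6,7,10,11,9,8] 8 .nil)))))))

/-- A node of the search. -/
def twelveNode232 : Tree := .br 1039 (.conf 0 (.conf 0 (.conf 1 (.conf 1 (.conf 2 (.conf 2 (.go twelveNode231 .nil)))))))

/-- A node of the search. -/
def twelveNode233 : Tree := .br 271 (.conf 0 (.conf 0 (.conf 1 (.conf 1 (.go twelveNode232 (.sym [0,1,2,3,4,5,6,7,8,10,9,11] 9 (.sym [0,1,2,3,4,5,6,7,8,10,11,9] 9 .nil)))))))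

/-- A node of the search. -/
def twelveNode234 : Tree := .br 79 (.conf 0 (.conf 0 (.go twelveNode233 (.sym [0,1,2,3,4,5,6,8,7,9,10,11] 7 (.sym [0,1,2,3,4,5,6,8,9,7,10,11] 7 (.sym [0,1,2,3,4,5,6,8,9,10,7,11] 7 (.sym [0,1,2,3,4,5,6,8,9,10,11,7] 7 .nil)))))))

/-- A node of the search. -/
def twelveNode235 : Tree := .br 31 (.go twelveNode234 (.sym [0,1,2,3,4,6,5,7,8,9,10,11] 5 (.sym [0,1,2,3,4,6,7,5,8,9,10,11] 5 (.sym [0,1,2,3,4,6,7,8,5,9,10,11] 5 (.sym [0,1,2,3,4,6,7,8,9,5,10,11] 5 (.sym [0,1,2,3,4,6,7,8,9,10,5,11] 5 (.sym [0,1,2,3,4,6,7,8,9,10,11,5] 5 .nil)))))))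

/-- The search. -/
def twelveTree : Tree := twelveNode235

set_option maxRecDepth 100000 in
theorem eleven_ok : check 11 4 elevenStd [] elevenTree = true ∧ distinct 11 elevenStd = true ∧ elevenStd.length = 66 := by
  decide +kernel

set_option maxRecDepth 100000 in
theorem twelve_ok : check 12 5 twelveStd [] twelveTree = true ∧ distinct 12 twelveStd = true ∧ twelveStd.length = 132 := by
  decide +kernel

end Cfsg.Lib.SteinerCert
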